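import Cfsg.Agent.RSp.Arith

/-! Direct products of small Ree groups: norms of group elements in a representation. -/

set_option autoImplicit false

namespace Cfsg.Lib.RSp

open Finset

variable {E : Type*} [Ring E] {L : Type*} [Group L]

/-- The sum of the powers of a group element. -/
noncomputable def nm (ρ : L →* E) (x : L) : E := ∑ t ∈ range (orderOf x), ρ x ^ t

theorem mul_nm (ρ : L →* E) (x : L) : ρ x * nm ρ x = nm ρ x := by
  have := mul_geom_sum (ρ x) (orderOf x)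
  rwa [← map_pow, pow_orderOf_eq_one, map_one, sub_self, sub_mul, one_mul, sub_eq_zero] at this

theorem nm_of_eq_one (ρ : L →* E) {x : L} (h : ρ x = 1) : nm ρ x = orderOf x := by simp [nm, h]

theorem cancel {l n : ℕ} (hl : l.Prime) (h0 : (l : E) = 0) (hn : ¬ l ∣ n) {a : E} (h : (n : E) * a = 0) :
    a = 0 := by
  obtain ⟨u, v, huv⟩ := Nat.isCoprime_iff_coprime.2 (hl.coprime_iff_not_dvd.2 hn)
  have h1 : (v : E) * n = 1 := by simpa [h0] using congrArg (Int.cast : ℤ → E) huv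
  rw [← one_mul a, ← h1, mul_assoc, h, mul_zero]

theorem sum_period {x : E} {n : ℕ} (h : x ^ n = 1) (k : ℕ) :
    ∑ t ∈ range (n * k), x ^ t = k * ∑ t ∈ range n, x ^ t := by
  induction k with
  | zero => simp
  | succ k ih => simp [mul_add, sum_range_add, ih, pow_add, pow_mul, h, add_mul]

theorem nm_mul_ne [Finite L] (ρ : L →* E) {l : ℕ} (hl : l.Prime) (h0 : (l : E) = 0) {a c : L}
    (hac : Commute a c) {b : E} (hb : ρ a * b = b) (hc : nm ρ c * b ≠ 0) (ha : ¬ l ∣ orderOf a)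
    (hd : orderOf c ∣ orderOf (a * c)) : nm ρ (a * c) ≠ 0 := fun h => by
  obtain ⟨k, hk⟩ := hd
  have h1 : ∀ t : ℕ, ρ a ^ t * b = b := fun t => by
    induction t with
    | zero => simp
    | succ t ih => rw [pow_succ, mul_assoc, hb, ih]
  have h2 : nm ρ (a * c) * b = k * (nm ρ c * b) := by
    rw [← mul_assoc, nm, nm, ← sum_period (by rw [← map_pow, pow_orderOf_eq_one, map_one]), hk, sum_mul,
      sum_mul]
    refine sum_congr rfl fun t _ => ?_
    rw [hac.eq, map_mul, (hac.symm.map ρ).mul_pow, mul_assoc, h1]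
  refine hc (cancel hl h0 (fun h3 => ha (h3.trans ?_)) (by rw [← h2, h, zero_mul]))
  have := hac.orderOf_mul_dvd_mul_orderOf
  rw [hk, mul_comm (orderOf a)] at this
  exact Nat.dvd_of_mul_dvd_mul_left (orderOf_pos c) this

/-- `h` acts on `F` as a Frobenius complement. -/
def Fr (F : Subgroup L) (h : L) : Prop :=
  F ≠ ⊥ ∧ (∀ f ∈ F, h * f * h⁻¹ ∈ F) ∧ ∀ i, 0 < i → i < orderOf h → ∀ f ∈ F, Commute f (h ^ i) → f = 1

theorem Fr.nm_ne [Finite L] {F : Subgroup L} {h : L} (hF : Fr F h) (ρ : L →* E)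
    (hρ : Function.Injective ρ) {l : ℕ} (hl : l.Prime) (h0 : (l : E) = 0) (hn : ¬ l ∣ Nat.card F) :
    nm ρ h ≠ 0 := fun hz => by
  classical
  have := Fintype.ofFinite F
  have hp : ∀ t : ℕ, ∀ f ∈ F, h ^ t * f * (h ^ t)⁻¹ ∈ F := fun t => by
    induction t with
    | zero => simp
    | succ t ih => exact fun f hf => by simpa [pow_succ, mul_assoc] using ih _ (hF.2.1 f hf)
  set S := ∑ f : F, ρ f
  have key : ∀ t ∈ range (orderOf h), ∑ f : F, ρ f * ρ h ^ t * ρ (f : L)⁻¹ =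
      S * ρ h ^ t + if t = 0 then (Nat.card F : E) - S else 0 := fun t ht => by
    split_ifs with h1
    · simp [h1, ← map_mul]
    let e : F → F := fun f => ⟨f * (h ^ t * (f : L)⁻¹ * (h ^ t)⁻¹), F.mul_mem f.2 (hp t _ (F.inv_mem f.2))⟩
    have he : Function.Injective e := fun f g hfg => by
      have h2 : (f : L) * (h ^ t * (f : L)⁻¹ * (h ^ t)⁻¹) = g * (h ^ t * (g : L)⁻¹ * (h ^ t)⁻¹) :=
        congrArg Subtype.val hfg
      refine Subtype.ext (inv_mul_eq_one.1 (hF.2.2 t (by omega) (mem_range.1 ht) _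
        (F.mul_mem (F.inv_mem g.2) f.2) ?_)).symm
      calc (g : L)⁻¹ * f * h ^ t = (g : L)⁻¹ * (f * (h ^ t * (f : L)⁻¹ * (h ^ t)⁻¹)) * h ^ t * f := by group
        _ = _ := by rw [h2]; group
    rw [add_zero, sum_mul, ← (Finite.injective_iff_bijective.1 he).sum_comp fun f => ρ f * ρ h ^ t]
    refine sum_congr rfl fun f _ => ?_
    simp only [e, ← map_pow, ← map_mul]
    congr 1
    group
  have h1 := sum_congr rfl key
  rw [sum_comm, sum_add_distrib, ← mul_sum, sum_ite_eq', if_pos (mem_range.2 (orderOf_pos h))] at h1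
  simp only [← sum_mul, ← mul_sum] at h1
  rw [← nm, hz] at h1
  have h2 : (Nat.card F : E) = S := by simpa [sub_eq_zero] using h1.symm
  obtain ⟨⟨f, hf⟩, hf1⟩ := Subgroup.ne_bot_iff_exists_ne_one.1 hF.1
  have h3 : ρ f * S = S := by
    rw [mul_sum]
    simpa using Equiv.sum_comp (Equiv.mulLeft (⟨f, hf⟩ : F)) fun g : F => ρ g
  refine hf1 (Subtype.ext (hρ (a₂ := 1) ?_))
  rw [map_one, ← sub_eq_zero]
  refine cancel hl h0 hn ?_
  rw [mul_sub, mul_one, Nat.cast_comm, h2, h3, sub_self]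

theorem jordan_comm {A : Type*} [CommRing A] (h3 : (3 : A) = 0) {a b c y : A} (ha : a ^ 4 * y = 0)
    (hb : b ^ 4 * y = 0) (hc : c ^ 3 * y = 0) :
    (∑ t ∈ range 9, ((a + 1) * (b + 1) * (c + 1)) ^ t) * y + a ^ 3 * b ^ 3 * c ^ 2 * y = 0 := by
  generalize hU : (a + 1) * (b + 1) * (c + 1) = U
  replace hU := hU.symm
  have h1 : ∑ t ∈ range 9, U ^ t = (U ^ 3 - 1) ^ 2 * (U - 1) ^ 2 := by
    simp only [sum_range_succ, sum_range_zero]
    linear_combination (U ^ 7 + U ^ 5 - U ^ 4 + U ^ 3 + U) * h3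
  have e : ∀ x : A, (x + 1) ^ 3 = x ^ 3 + 1 := fun x => by linear_combination (x ^ 2 + x) * h3
  have h2 : (U ^ 3 - 1) * y = (a ^ 3 + b ^ 3 + a ^ 3 * b ^ 3) * y := by
    rw [hU, mul_pow, mul_pow, e, e, e]
    linear_combination (a ^ 3 + 1) * (b ^ 3 + 1) * hc
  have h4 : (U ^ 3 - 1) ^ 2 * y = 2 * (a ^ 3 * b ^ 3 * y) := by
    linear_combination (U ^ 3 - 1 + (a ^ 3 + b ^ 3 + a ^ 3 * b ^ 3)) * h2 +
      a ^ 2 * (1 + b ^ 3) ^ 2 * ha + b ^ 2 * (1 + 2 * a ^ 3) * hb
  have h5 : (U - 1) * (a ^ 3 * b ^ 3 * y) = c * (a ^ 3 * b ^ 3 * y) := by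
    rw [hU]
    linear_combination (b + 1) * (c + 1) * b ^ 3 * ha + (c + 1) * a ^ 3 * hb
  rw [h1]
  linear_combination (U - 1) ^ 2 * h4 + 2 * (U - 1 + c) * h5 + a ^ 3 * b ^ 3 * c ^ 2 * y * h3

open scoped IsMulCommutative in
theorem jordan (h3 : (3 : E) = 0) {a b c : E} (ab : Commute a b) (ac : Commute a c) (bc : Commute b c)
    {i j k : ℕ} (ha : a ^ (i + 4) = 0) (hb : b ^ (j + 4) = 0) (hc : c ^ (k + 4) = 0)
    (h : ∑ t ∈ range 9, ((a + 1) * (b + 1) * (c + 1)) ^ t = 0) :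
    a ^ (i + 3) * (b ^ (j + 3) * c ^ (k + 3)) = 0 := by
  have := Subring.isMulCommutative_closure (s := {a, b, c}) (by
    rintro x (rfl | rfl | rfl) y (rfl | rfl | rfl) <;>
      first | rfl | exact ab | exact ac | exact bc | exact ab.symm | exact ac.symm | exact bc.symm)
  let a' : Subring.closure {a, b, c} := ⟨a, Subring.subset_closure (by simp)⟩
  let b' : Subring.closure {a, b, c} := ⟨b, Subring.subset_closure (by simp)⟩
  let c' : Subring.closure {a, b, c} := ⟨c, Subring.subset_closure (by simp)⟩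
  have ha' : a' ^ (i + 4) = 0 := Subtype.ext ha
  have hb' : b' ^ (j + 4) = 0 := Subtype.ext hb
  have hc' : c' ^ (k + 4) = 0 := Subtype.ext hc
  have h' : ∑ t ∈ range 9, ((a' + 1) * (b' + 1) * (c' + 1)) ^ t = 0 := Subtype.ext (by simpa using h)
  have h1 := jordan_comm (Subtype.ext h3) (a := a') (b := b') (c := c') (y := a' ^ i * b' ^ j * c' ^ (k + 1))
    (by linear_combination b' ^ j * c' ^ (k + 1) * ha') (by linear_combination a' ^ i * c' ^ (k + 1) * hb')
    (by linear_combination a' ^ i * b' ^ j * hc')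
  rw [h', zero_mul, zero_add] at h1
  exact congrArg Subtype.val
    (show a' ^ (i + 3) * (b' ^ (j + 3) * c' ^ (k + 3)) = 0 by linear_combination h1)

theorem exists_index (h3 : (3 : E) = 0) {u : E} (h9 : u ^ 9 = 1) (h : u ^ 3 ≠ 1) :
    ∃ i, (u - 1) ^ (i + 3) ≠ 0 ∧ (u - 1) ^ (i + 4) = 0 := by
  have e : ∀ x : E, (x - 1) ^ 3 = x ^ 3 - 1 := fun x => by
    have : (x - 1) ^ 3 = x ^ 3 - 1 + 3 * (x - x ^ 2) := by noncomm_ring
    rw [this, h3, zero_mul, add_zero]
  by_contra hn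
  have h1 : ∀ i, (u - 1) ^ (i + 3) ≠ 0 := fun i => by
    induction i with
    | zero => rwa [zero_add, e, sub_ne_zero]
    | succ i ih => exact fun h => hn ⟨i, ih, h⟩
  exact h1 6 (by rw [show 6 + 3 = 3 * 3 from rfl, pow_mul, e, e, ← pow_mul, h9, sub_self])

/-- The image of the group ring is prime. -/
def Pm (ρ : L →* E) : Prop := ∀ a b : E, (∀ x, a * ρ x * b = 0) → a = 0 ∨ b = 0

section Fam

variable {ι : Type*} [DecidableEq ι] {R : ι → Type*} [∀ i, Group (R i)] {ρ : (∀ i, R i) →* E}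

/-- `a` commutes with the factors other than `i`. -/
def In (ρ : (∀ i, R i) →* E) (i : ι) (a : E) : Prop := ∀ x, x i = 1 → Commute a (ρ x)

/-- `b` commutes with the factor `i`. -/
def Ou (ρ : (∀ i, R i) →* E) (i : ι) (b : E) : Prop := ∀ y : R i, Commute b (ρ (Pi.mulSingle i y))

theorem commute_single {i : ι} (y : R i) {x : ∀ i, R i} (hx : x i = 1) : Commute (Pi.mulSingle i y) x := by
  ext j
  by_cases h : j = i
  · subst h; simp [hx]
  · simp [h]

theorem in_single (i : ι) (y : R i) : In ρ i (ρ (Pi.mulSingle i y)) :=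
  fun _ hx => (commute_single y hx).map ρ

theorem in_nm (i : ι) (y : R i) : In ρ i (nm ρ (Pi.mulSingle i y)) :=
  fun x hx => Commute.sum_left _ _ _ fun _ _ => (in_single i y x hx).pow_left _

theorem in_pow (i : ι) (y : R i) (n : ℕ) : In ρ i ((ρ (Pi.mulSingle i y) - 1) ^ n) :=
  fun x hx => ((in_single i y x hx).sub_left (Commute.one_left _)).pow_left _

theorem In.ou {i j : ι} {a : E} (h : In ρ i a) (hij : i ≠ j) : Ou ρ j a :=
  fun _ => h _ (Pi.mulSingle_eq_of_ne hij _)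

theorem Ou.mul {i : ι} {a b : E} (ha : Ou ρ i a) (hb : Ou ρ i b) : Ou ρ i (a * b) :=
  fun y => (ha y).mul_left (hb y)

theorem Pm.box (h : Pm ρ) {i : ι} {a b : E} (ha : In ρ i a) (hb : Ou ρ i b) (a0 : a ≠ 0) (b0 : b ≠ 0) :
    a * b ≠ 0 := fun hab => by
  refine (h a b fun x => ?_).elim a0 b0
  have : x = Function.update x i 1 * Pi.mulSingle i (x i) := by
    ext j
    by_cases h : j = i
    · subst h; simp
    · simp [h]
  rw [this, map_mul, ← mul_assoc, (ha _ (by simp)).eq, mul_assoc, ← (hb _).eq, ← mul_assoc, mul_assoc _ a,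
    hab, mul_zero, zero_mul]

theorem Pm.fix [Nontrivial E] (h : Pm ρ) (x : ∀ i, R i) (s : Finset ι)
    (hs : ∀ i ∈ s, nm ρ (Pi.mulSingle i (x i)) ≠ 0) :
    ∃ b : E, b ≠ 0 ∧ ρ (fun j => if j ∈ s then x j else 1) * b = b ∧ ∀ j ∉ s, Ou ρ j b := by
  induction s using Finset.induction_on with
  | empty => exact ⟨1, one_ne_zero, by simp only [notMem_empty, if_false, mul_one]; exact map_one ρ,
      fun j _ y => Commute.one_left _⟩
  | insert i s hi ih =>
    obtain ⟨b, h1, h2, h3⟩ := ih fun j hj => hs j (mem_insert_of_mem hj)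
    refine ⟨_, h.box (in_nm i (x i)) (h3 i hi) (hs i (mem_insert_self _ _)) h1, ?_, fun j hj =>
      ((in_nm i (x i)).ou fun e => hj (e ▸ mem_insert_self _ _)).mul
        (h3 j fun h => hj (mem_insert_of_mem h))⟩
    have : (fun j => if j ∈ insert i s then x j else 1) =
        Pi.mulSingle i (x i) * fun j => if j ∈ s then x j else 1 := by
      ext j
      by_cases h : j = i
      · subst h; simp [hi]
      · simp [h]
    have hc := (in_nm (ρ := ρ) i (x i) (fun j => if j ∈ s then x j else 1) (by simp [hi])).eq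
    rw [this, map_mul, mul_assoc, ← mul_assoc _ _ b, ← hc, mul_assoc, h2, ← mul_assoc, mul_nm]

theorem orderOf_single (i : ι) (y : R i) : orderOf (Pi.mulSingle i y : ∀ i, R i) = orderOf y :=
  orderOf_injective (MonoidHom.mulSingle R i) (Pi.mulSingle_injective i) y

omit [DecidableEq ι] in
theorem exists_dvd_of_pow [Finite ι] [∀ i, Finite (R i)] (x : ∀ i, R i) {l e : ℕ} (hl : l.Prime)
    (h : l ^ (e + 1) ∣ orderOf x) : ∃ j, l ^ (e + 1) ∣ orderOf (x j) := by
  classical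
  have := Fintype.ofFinite ι
  rw [Pi.orderOf] at h
  revert h
  refine Finset.induction_on (univ : Finset ι) (fun h => ?_) fun i s _ ih h => ?_
  · simp [hl.ne_one] at h
  · rw [lcm_insert, lcm_eq_nat_lcm] at h
    have h0 : s.lcm (fun i => orderOf (x i)) ≠ 0 := by simp [Finset.lcm_eq_zero_iff, (orderOf_pos _).ne']
    rw [hl.pow_dvd_iff_le_factorization (Nat.lcm_ne_zero (orderOf_pos _).ne' h0),
      Nat.factorization_lcm (orderOf_pos _).ne' h0, Finsupp.sup_apply, le_sup_iff,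
      ← hl.pow_dvd_iff_le_factorization (orderOf_pos _).ne', ← hl.pow_dvd_iff_le_factorization h0] at h
    exact h.elim (fun h => ⟨i, h⟩) ih

theorem Pm.all [Nontrivial E] [Finite ι] [∀ i, Finite (R i)] (h : Pm ρ) {l : ℕ} (hl : l.Prime)
    (h0 : (l : E) = 0) (x : ∀ i, R i) (hx : ∀ i, nm ρ (Pi.mulSingle i (x i)) ≠ 0)
    (hu : ∀ i j, l ∣ orderOf (x i) → l ∣ orderOf (x j) → i = j) : nm ρ x ≠ 0 := by
  have := Fintype.ofFinite ι
  by_cases h1 : ∃ i, l ∣ orderOf (x i)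
  · obtain ⟨i, hi⟩ := h1
    obtain ⟨b, b0, h2, h3⟩ := h.fix x (univ.erase i) fun j _ => hx j
    have e : x = (fun j => if j ∈ univ.erase i then x j else 1) * Pi.mulSingle i (x i) := by
      ext j
      by_cases h : j = i
      · subst h; simp
      · simp [h]
    rw [e]
    refine nm_mul_ne ρ hl h0 (commute_single _ (by simp)).symm h2
      (h.box (in_nm i _) (h3 i (by simp)) (hx i) b0) (fun h4 => ?_) ?_
    · obtain ⟨j, hj⟩ := exists_dvd_of_pow _ (e := 0) hl (by simpa using h4)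
      by_cases h : j = i
      · simp [h, hl.ne_one] at hj
      · exact h (hu j i (by simpa [h] using hj) hi)
    · rw [← e, orderOf_single]
      exact orderOf_apply_dvd_orderOf i
  · obtain ⟨b, b0, h2, -⟩ := h.fix x univ fun j _ => hx j
    have := nm_mul_ne ρ hl h0 (Commute.one_right x) (b := b) (by simpa using h2) (by simpa [nm] using b0)
      (fun h4 => h1 (by simpa using exists_dvd_of_pow x (e := 0) hl (by simpa using h4))) (by simp)
    rwa [mul_one] at this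

theorem Pm.nine [∀ i, Finite (R i)] (h : Pm ρ) (h3 : (3 : E) = 0) {i j k : ι} (ij : i ≠ j) (ik : i ≠ k)
    (jk : j ≠ k) {u : R i} {v : R j} {w : R k} (hu : orderOf u = 9) (hv : orderOf v = 9)
    (hw : orderOf w = 9) (hi : ρ (Pi.mulSingle i (u ^ 3)) ≠ 1) (hj : ρ (Pi.mulSingle j (v ^ 3)) ≠ 1)
    (hk : ρ (Pi.mulSingle k (w ^ 3)) ≠ 1) : ∃ x, orderOf x = 9 ∧ nm ρ x ≠ 0 := by
  have key : ∀ {i : ι} {u : R i}, orderOf u = 9 → ρ (Pi.mulSingle i (u ^ 3)) ≠ 1 →
      ∃ n, (ρ (Pi.mulSingle i u) - 1) ^ (n + 3) ≠ 0 ∧ (ρ (Pi.mulSingle i u) - 1) ^ (n + 4) = 0 :=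
    fun {i u} hu hi => exists_index h3 (by
      rw [← map_pow, ← Pi.mulSingle_pow, ← hu, pow_orderOf_eq_one, Pi.mulSingle_one, map_one])
      (by rwa [← map_pow, ← Pi.mulSingle_pow])
  obtain ⟨a, a1, a2⟩ := key hu hi
  obtain ⟨b, b1, b2⟩ := key hv hj
  obtain ⟨c, c1, c2⟩ := key hw hk
  have cm : ∀ {i j : ι} (u : R i) (v : R j), i ≠ j →
      Commute (Pi.mulSingle i u : ∀ i, R i) (Pi.mulSingle j v) :=
    fun u v h => commute_single _ (Pi.mulSingle_eq_of_ne h _)
  have cm' : ∀ {i j : ι} (u : R i) (v : R j), i ≠ j →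
      Commute (ρ (Pi.mulSingle i u) - 1) (ρ (Pi.mulSingle j v) - 1) := fun u v h =>
    (((cm u v h).map ρ).sub_left (Commute.one_left _)).sub_right (Commute.one_right _)
  have ho : orderOf (Pi.mulSingle i u * Pi.mulSingle j v * Pi.mulSingle k w : ∀ i, R i) = 9 := by
    apply Nat.dvd_antisymm
    · rw [orderOf_dvd_iff_pow_eq_one, ((cm u w ik).mul_left (cm v w jk)).mul_pow, (cm u v ij).mul_pow,
        ← Pi.mulSingle_pow, ← Pi.mulSingle_pow, ← Pi.mulSingle_pow, orderOf_dvd_iff_pow_eq_one.1 hu.dvd,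
        orderOf_dvd_iff_pow_eq_one.1 hv.dvd, orderOf_dvd_iff_pow_eq_one.1 hw.dvd]
      simp
    · refine .trans ?_ (orderOf_apply_dvd_orderOf i)
      simp [ij, ik, hu]
  refine ⟨_, ho, fun hz => h.box (in_pow i u _) (((in_pow j v _).ou ij.symm).mul ((in_pow k w _).ou ik.symm))
    a1 (h.box (in_pow j v _) ((in_pow k w _).ou jk.symm) b1 c1)
    (jordan h3 (cm' u v ij) (cm' u w ik) (cm' v w jk) a2 b2 c2 ?_)⟩
  simpa [nm, ho] using hz

end Fam

end Cfsg.Lib.RSp
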