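import Cfsg.Agent.S3430

/-! Direct products of small Ree groups: arithmetic of the element orders. -/

set_option autoImplicit false

namespace Cfsg.Lib.RSp

/-- The odd parts of the orders of the four maximal tori. -/
def mu (m : ℕ) : Fin 4 → ℕ :=
  ![(3 ^ (2 * m + 1) - 1) / 2, (3 ^ (2 * m + 1) + 1) / 4, 3 ^ (2 * m + 1) - 3 ^ (m + 1) + 1,
    3 ^ (2 * m + 1) + 3 ^ (m + 1) + 1]

/-- The element orders of the Ree group. -/
def W (m d : ℕ) : Prop := d ∣ 6 ∨ d ∣ 9 ∨ ∃ c, d ∣ 2 * mu m c ∧ (2 ∣ d → c = 0 ∨ c = 1)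

variable {m : ℕ}

theorem exists_t (m : ℕ) : ∃ k : ℕ, 3 ^ m = 2 * k + 1 ∧ mu m 0 = 6 * k ^ 2 + 6 * k + 1 ∧
    mu m 1 = 3 * k ^ 2 + 3 * k + 1 ∧ mu m 2 = 12 * k ^ 2 + 6 * k + 1 ∧
    mu m 3 = 12 * k ^ 2 + 18 * k + 7 ∧ 3 ^ (2 * m + 1) = 12 * k ^ 2 + 12 * k + 3 := by
  obtain ⟨k, hk⟩ : Odd (3 ^ m) := Odd.pow (by decide)
  have h1 : 3 ^ (2 * m + 1) = 12 * k ^ 2 + 12 * k + 3 := by rw [pow_succ, pow_mul', hk]; ring
  have h2 : 3 ^ (m + 1) = 6 * k + 3 := by rw [pow_succ, hk]; ring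
  refine ⟨k, hk, ?_, ?_, ?_, ?_, h1⟩ <;> simp only [mu, h1, h2] <;> simp <;> omega

theorem two_mul_mu0 (m : ℕ) : 2 * mu m 0 = 3 ^ (2 * m + 1) - 1 := by
  obtain ⟨k, -, h0, -, -, -, h⟩ := exists_t m
  omega

theorem two_mul_mu1 (m : ℕ) : 2 * mu m 1 = (3 ^ (2 * m + 1) + 1) / 2 := by
  obtain ⟨k, -, -, h0, -, -, h⟩ := exists_t m
  omega

theorem fin4 (c : Fin 4) : c = 0 ∨ c = 1 ∨ c = 2 ∨ c = 3 := by omega

theorem not_two (c : Fin 4) : ¬ 2 ∣ mu m c := by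
  obtain ⟨k, -, h0, h1, h2, h3, -⟩ := exists_t m
  have := Nat.even_mul_succ_self k
  rw [Nat.even_iff, mul_add, ← sq] at this
  rcases fin4 c with rfl | rfl | rfl | rfl <;> omega

theorem not_three (c : Fin 4) : ¬ 3 ∣ mu m c := by
  obtain ⟨k, -, h0, h1, h2, h3, -⟩ := exists_t m
  rcases fin4 c with rfl | rfl | rfl | rfl <;> omega

theorem mu_pos (c : Fin 4) : 0 < mu m c := Nat.pos_of_ne_zero fun h => not_two (m := m) c (by simp [h])

theorem seven_lt (hm : 2 ≤ m) (c : Fin 4) : 7 < mu m c := by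
  obtain ⟨k, hk, h0, h1, h2, h3, -⟩ := exists_t m
  have := Nat.pow_le_pow_right (by norm_num : 0 < 3) hm
  rcases fin4 c with rfl | rfl | rfl | rfl <;> omega

theorem two_mul_dvd (c : Fin 4) : 2 * mu m c ∣ 3 ^ (6 * (2 * m + 1)) - 1 := by
  obtain ⟨k, -, h0, h1, h2, h3, h⟩ := exists_t m
  have : 3 ^ (6 * (2 * m + 1)) - 1 = 8 * mu m 0 * mu m 1 * mu m 2 * mu m 3 *
      ((12 * k ^ 2 + 12 * k + 3) ^ 2 + (12 * k ^ 2 + 12 * k + 3) + 1) := by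
    rw [pow_mul', h, h0, h1, h2, h3]
    exact Nat.sub_eq_of_eq_add (by ring)
  rw [this]
  refine Dvd.dvd.mul_right ?_ _
  rcases fin4 c with rfl | rfl | rfl | rfl
  · exact ⟨4 * mu m 1 * mu m 2 * mu m 3, by ring⟩
  · exact ⟨4 * mu m 0 * mu m 2 * mu m 3, by ring⟩
  · exact ⟨4 * mu m 0 * mu m 1 * mu m 3, by ring⟩
  · exact ⟨4 * mu m 0 * mu m 1 * mu m 2, by ring⟩

theorem cls_eq {l : ℕ} (hl : l.Prime) {c d : Fin 4} (hc : l ∣ mu m c) (hd : l ∣ mu m d) : c = d := by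
  have h2 : l ≠ 2 := fun h => not_two c (h ▸ hc)
  have h3 : l ≠ 3 := fun h => not_three c (h ▸ hc)
  obtain ⟨k, hk, h0, h1, h2', h3', -⟩ := exists_t m
  have := Fact.mk hl
  have n2 : (2 : ZMod l) ≠ 0 := fun h => h2 ((Nat.prime_dvd_prime_iff_eq hl Nat.prime_two).1
    ((ZMod.natCast_eq_zero_iff 2 l).1 (by exact_mod_cast h)))
  have n3 : (3 : ZMod l) ≠ 0 := fun h => h3 ((Nat.prime_dvd_prime_iff_eq hl Nat.prime_three).1
    ((ZMod.natCast_eq_zero_iff 3 l).1 (by exact_mod_cast h)))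
  have nk : (2 * k + 1 : ZMod l) ≠ 0 := by
    have := pow_ne_zero m n3
    rwa [show (3 : ZMod l) ^ m = ((3 ^ m : ℕ) : ZMod l) by simp, hk, Nat.cast_add, Nat.cast_mul,
      Nat.cast_one, Nat.cast_ofNat] at this
  rw [← ZMod.natCast_eq_zero_iff] at hc hd
  rcases fin4 c with rfl | rfl | rfl | rfl <;> rcases fin4 d with rfl | rfl | rfl | rfl <;>
    first
    | rfl
    | exfalso
      simp only [h0, h1, h2', h3'] at hc hd
      push_cast at hc hd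
      grind

theorem cast_cases {N : ℕ} {c : Fin 4} (h : N ∣ mu m c) :
    ((c = 0 ∨ c = 1) ∧ ((3 : ZMod N) ^ (2 * m + 1)) ^ 2 = 1) ∨
      ((3 : ZMod N) ^ (2 * m + 1)) ^ 2 - 3 ^ (2 * m + 1) + 1 = 0 := by
  obtain ⟨k, -, h0, h1, h2, h3, hq⟩ := exists_t m
  have hq' : (3 : ZMod N) ^ (2 * m + 1) = 12 * k ^ 2 + 12 * k + 3 := by exact_mod_cast congrArg (Nat.cast : ℕ → ZMod N) hq
  rw [← ZMod.natCast_eq_zero_iff] at h
  rw [hq']
  rcases fin4 c with rfl | rfl | rfl | rfl <;> simp only [h0, h1, h2, h3] at h <;> push_cast at h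
  · exact Or.inl ⟨Or.inl rfl, by linear_combination (24 * k ^ 2 + 24 * k + 8) * h⟩
  · exact Or.inl ⟨Or.inr rfl, by linear_combination (48 * k ^ 2 + 48 * k + 8) * h⟩
  · exact Or.inr (by linear_combination (12 * k ^ 2 + 18 * k + 7) * h)
  · exact Or.inr (by linear_combination (12 * k ^ 2 + 6 * k + 1) * h)

theorem not_five (c : Fin 4) : ¬ 5 ∣ mu m c := fun h => by
  have h1 := cast_cases h
  clear h
  rw [pow_eq_pow_mod _ (by decide : (3 : ZMod 5) ^ 4 = 1)] at h1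
  have : (2 * m + 1) % 4 = 1 ∨ (2 * m + 1) % 4 = 3 := by omega
  rcases this with h2 | h2 <;> rw [h2] at h1 <;> revert h1 c <;> decide

/-- The exponent is a large prime. -/
def Gd (m : ℕ) : Prop := (2 * m + 1).Prime ∧ 8 ≤ m

theorem Gd.not_dvd (h : Gd m) {a : ℕ} (h1 : 1 < a) (h2 : a < 17) : ¬ a ∣ 2 * m + 1 := fun h3 => by
  have := (Nat.dvd_prime h.1).1 h3
  have := h.2
  omega

theorem Gd.not_13 (h : Gd m) (c : Fin 4) : ¬ 13 ∣ mu m c := fun h0 => by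
  have h1 := cast_cases h0
  clear h0
  rw [pow_eq_pow_mod _ (by decide : (3 : ZMod 13) ^ 3 = 1)] at h1
  have := h.not_dvd (a := 3) (by norm_num) (by norm_num)
  have : (2 * m + 1) % 3 = 1 ∨ (2 * m + 1) % 3 = 2 := by omega
  rcases this with h2 | h2 <;> rw [h2] at h1 <;> revert h1 c <;> decide

theorem Gd.seven (h : Gd m) {c : Fin 4} (h0 : 7 ∣ mu m c) : c ≠ 0 ∧ c ≠ 1 := by
  obtain ⟨k, -, h0', h1, -, -, hq⟩ := exists_t m
  have := h.not_dvd (a := 3) (by norm_num) (by norm_num)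
  have h3 : 3 ^ (2 * m + 1) % 7 = 3 ^ ((2 * m + 1) % 6) % 7 := by
    conv_lhs => rw [← Nat.div_add_mod (2 * m + 1) 6, pow_add, pow_mul, Nat.mul_mod, Nat.pow_mod]
    simp
  have : (2 * m + 1) % 6 = 1 ∨ (2 * m + 1) % 6 = 5 := by omega
  constructor <;> rintro rfl <;> rcases this with h2 | h2 <;> rw [h2] at h3 <;> omega

theorem Gd.not_49 (h : Gd m) (c : Fin 4) : ¬ 49 ∣ mu m c := fun h0 => by
  have h7 := h.seven ((by norm_num : 7 ∣ 49).trans h0)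
  have h1 := (cast_cases h0).resolve_left fun h => h.1.elim h7.1 h7.2
  rw [pow_eq_pow_mod _ (by decide : (3 : ZMod 49) ^ 42 = 1)] at h1
  have h2 := (by decide : ∀ j < 42, ((3 : ZMod 49) ^ j) ^ 2 - 3 ^ j + 1 = 0 → 7 ∣ j) _
    (Nat.mod_lt _ (by norm_num)) h1
  have := h.not_dvd (a := 7) (by norm_num) (by norm_num)
  omega

/-- A prime that belongs to the Ree group with parameter `m` only. -/
def Pr (m : ℕ) (c : Fin 4) (l : ℕ) : Prop := l.Prime ∧ l ≠ 7 ∧ l ∣ mu m c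

theorem Gd.exists_pr (h : Gd m) (c : Fin 4) : ∃ l, Pr m c l := by
  by_contra hn
  have h1 := Nat.eq_prime_pow_of_unique_prime_dvd (mu_pos (m := m) c).ne' (p := 7) fun {d} hd hd' => by
    by_contra h7
    exact hn ⟨d, hd, h7, hd'⟩
  have h2 := seven_lt (m := m) (by have := h.2; omega) c
  generalize (mu m c).primeFactorsList.length = e at h1
  have h3 := h.not_49 c
  rw [h1] at h2 h3
  rcases e with _ | _ | e
  · omega
  · omega
  · exact h3 ⟨7 ^ e, by ring⟩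

theorem exists_no_seven (m : ℕ) : ∃ c : Fin 4, c ≠ 0 ∧ c ≠ 1 ∧ ¬ 7 ∣ mu m c := by
  by_cases h : 7 ∣ mu m 2
  · exact ⟨3, by decide, by decide, fun h' => absurd (cls_eq (by norm_num) h h') (by decide)⟩
  · exact ⟨2, by decide, by decide, h⟩

theorem Pr.ne_two {c : Fin 4} {l : ℕ} (h : Pr m c l) : l ≠ 2 := fun e => not_two c (e ▸ h.2.2)

theorem Pr.ne_three {c : Fin 4} {l : ℕ} (h : Pr m c l) : l ≠ 3 := fun e => not_three c (e ▸ h.2.2)

theorem dvd_728 {l : ℕ} (hl : l.Prime) (h : l ∣ 3 ^ 6 - 1) : l = 2 ∨ l = 7 ∨ l = 13 := by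
  rw [show 3 ^ 6 - 1 = 2 ^ 3 * (7 * 13) by norm_num, hl.dvd_mul, hl.dvd_mul] at h
  rcases h with h | h | h
  · exact Or.inl ((Nat.prime_dvd_prime_iff_eq hl Nat.prime_two).1 (hl.dvd_of_dvd_pow h))
  · exact Or.inr (Or.inl ((Nat.prime_dvd_prime_iff_eq hl (by norm_num)).1 h))
  · exact Or.inr (Or.inr ((Nat.prime_dvd_prime_iff_eq hl (by norm_num)).1 h))

theorem dvd_of_two_mul {l d : ℕ} (hl : l.Prime) (h2 : l ≠ 2) {e : ℕ} (h : l ^ e ∣ 2 * d) : l ^ e ∣ d :=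
  (Nat.Coprime.pow_left e ((Nat.coprime_primes hl Nat.prime_two).2 h2)).dvd_of_dvd_mul_left h

theorem dvd_of_two_mul' {l d : ℕ} (hl : l.Prime) (h2 : l ≠ 2) (h : l ∣ 2 * d) : l ∣ d :=
  ((Nat.coprime_primes hl Nat.prime_two).2 h2).dvd_of_dvd_mul_left h

namespace W

variable {d : ℕ} (h : W m d)
include h

theorem cases {l : ℕ} (hl : l.Prime) (hd : l ∣ d) : l = 2 ∨ l = 3 ∨
    ∃ c, l ∣ mu m c ∧ d ∣ 2 * mu m c ∧ (2 ∣ d → c = 0 ∨ c = 1) := by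
  by_cases h2 : l = 2
  · exact Or.inl h2
  refine Or.inr ?_
  rcases h with h | h | ⟨c, h1, h3⟩
  · exact Or.inl ((Nat.prime_dvd_prime_iff_eq hl Nat.prime_three).1
      (dvd_of_two_mul' (d := 3) hl h2 (hd.trans h)))
  · exact Or.inl ((Nat.prime_dvd_prime_iff_eq hl Nat.prime_three).1
      (hl.dvd_of_dvd_pow (n := 2) (hd.trans h)))
  · exact Or.inr ⟨c, dvd_of_two_mul' hl h2 (hd.trans h1), h1, h3⟩

theorem dvd_pow {l : ℕ} (hl : l.Prime) (hd : l ∣ d) : l = 3 ∨ l ∣ 3 ^ (6 * (2 * m + 1)) - 1 := by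
  rcases h.cases hl hd with rfl | rfl | ⟨c, h1, -⟩
  · exact Or.inr ((dvd_mul_right _ _).trans (two_mul_dvd 0))
  · exact Or.inl rfl
  · exact Or.inr ((h1.mul_left 2).trans (two_mul_dvd c))

theorem loc {l : ℕ} {c : Fin 4} (hl : l.Prime) (hc : l ∣ mu m c) (hd : l ∣ d) :
    d ∣ 2 * mu m c ∧ (2 ∣ d → c = 0 ∨ c = 1) := by
  rcases h.cases hl hd with rfl | rfl | ⟨c', h1, h2⟩
  · exact absurd hc (not_two c)
  · exact absurd hc (not_three c)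
  · rwa [cls_eq hl hc h1]

theorem not_four : ¬ 4 ∣ d := fun h4 => by
  rcases h with h | h | ⟨c, h, -⟩
  · exact absurd (h4.trans h) (by norm_num)
  · exact absurd (h4.trans h) (by norm_num)
  · have := not_two (m := m) c
    have := h4.trans h
    omega

theorem dvd_nine (h9 : 9 ∣ d) : d ∣ 9 := by
  rcases h with h | h | ⟨c, h, -⟩
  · exact absurd (h9.trans h) (by norm_num)
  · exact h
  · have := not_three (m := m) c
    have := h9.trans h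
    omega

theorem not_five : ¬ 5 ∣ d := fun h5 => by
  rcases h.cases (by norm_num) h5 with h | h | ⟨c, h, -⟩
  · omega
  · omega
  · exact RSp.not_five c h

theorem not_14 (hm : Gd m) (h2 : 2 ∣ d) (h7 : 7 ∣ d) : False := by
  rcases h.cases (by norm_num) h7 with h | h | ⟨c, h1, -, h3⟩
  · omega
  · omega
  · exact (h3 h2).elim (hm.seven h1).1 (hm.seven h1).2

end W

theorem dvd_gcd_pow {l a b : ℕ} (ha : l ∣ 3 ^ a - 1) (hb : l ∣ 3 ^ b - 1) : l ∣ 3 ^ a.gcd b - 1 :=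
  Nat.pow_sub_one_gcd_pow_sub_one 3 a b ▸ Nat.dvd_gcd ha hb

variable {ι : Type*}

/-- The admissible families of parameters. -/
structure Par (m : ι → ℕ) : Prop where
  gd : ∀ i, Gd (m i)
  inj : Function.Injective m
  nd : ∀ i j, ¬ 2 * m i + 1 ∣ 3 ^ (6 * (2 * m j + 1)) - 1

/-- A necessary condition for `n` to be an element order of the product. -/
def Sp (m : ι → ℕ) (n : ℕ) : Prop := ∃ o : ι → ℕ, (∀ j, W (m j) (o j)) ∧
  ∀ l e : ℕ, l.Prime → l ^ (e + 1) ∣ n → ∃ j, l ^ (e + 1) ∣ o j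

section Fam

variable {m : ι → ℕ} {n : ℕ}

theorem Sp.of_dvd (h : Sp m n) {k : ℕ} (hk : k ∣ n) : Sp m k :=
  let ⟨o, h1, h2⟩ := h; ⟨o, h1, fun l e hl hd => h2 l e hl (hd.trans hk)⟩

theorem Par.eq_of_pr (hp : Par m) {i j : ι} {c : Fin 4} {l : ℕ} (h : Pr (m i) c l)
    (hd : l ∣ 3 ^ (6 * (2 * m j + 1)) - 1) : i = j := by
  by_contra hne
  have h1 := dvd_gcd_pow ((h.2.2.mul_left 2).trans (two_mul_dvd c)) hd
  rw [Nat.gcd_mul_left, (Nat.coprime_primes (hp.gd i).1 (hp.gd j).1).2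
    fun e => hne (hp.inj (by omega))] at h1
  rcases dvd_728 h.1 h1 with e | e | e
  · exact h.ne_two e
  · exact h.2.1 e
  · exact (hp.gd i).not_13 c (e ▸ h.2.2)

theorem Par.loc (hp : Par m) {o : ι → ℕ} (h1 : ∀ j, W (m j) (o j))
    (h2 : ∀ l e : ℕ, l.Prime → l ^ (e + 1) ∣ n → ∃ j, l ^ (e + 1) ∣ o j) {i : ι} {c : Fin 4} {l e : ℕ}
    (h : Pr (m i) c l) (hd : l ^ (e + 1) ∣ n) :
    l ^ (e + 1) ∣ o i ∧ o i ∣ 2 * mu (m i) c ∧ (2 ∣ o i → c = 0 ∨ c = 1) := by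
  obtain ⟨j, hj⟩ := h2 l e h.1 hd
  have h3 := (dvd_pow_self l e.succ_ne_zero).trans hj
  obtain rfl := hp.eq_of_pr h (((h1 j).dvd_pow h.1 h3).resolve_left h.ne_three)
  exact ⟨hj, (h1 i).loc h.1 h.2.2 h3⟩

theorem Par.loc' (hp : Par m) {o : ι → ℕ} (h1 : ∀ j, W (m j) (o j))
    (h2 : ∀ l e : ℕ, l.Prime → l ^ (e + 1) ∣ n → ∃ j, l ^ (e + 1) ∣ o j) {i : ι} {c : Fin 4} {l : ℕ}
    (h : Pr (m i) c l) (hd : l ∣ n) :
    l ∣ o i ∧ o i ∣ 2 * mu (m i) c ∧ (2 ∣ o i → c = 0 ∨ c = 1) := by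
  simpa using hp.loc h1 h2 (e := 0) h (by simpa using hd)

namespace Sp

variable (h : Sp m n)
include h

theorem prime {l : ℕ} (hl : l.Prime) (hd : l ∣ n) : ∃ j d, W (m j) d ∧ l ∣ d := by
  obtain ⟨o, h1, h2⟩ := h
  obtain ⟨j, hj⟩ := h2 l 0 hl (by simpa using hd)
  exact ⟨j, o j, h1 j, by simpa using hj⟩

theorem not_four : ¬ 4 ∣ n := fun h4 => by
  obtain ⟨o, h1, h2⟩ := h
  obtain ⟨j, hj⟩ := h2 2 1 Nat.prime_two h4
  exact (h1 j).not_four hj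

theorem not_27 : ¬ 27 ∣ n := fun h4 => by
  obtain ⟨o, h1, h2⟩ := h
  obtain ⟨j, hj⟩ := h2 3 2 Nat.prime_three h4
  exact absurd (hj.trans ((h1 j).dvd_nine ((by norm_num : 9 ∣ 3 ^ (2 + 1)).trans hj))) (by norm_num)

theorem not_five : ¬ 5 ∣ n := fun h5 => by
  obtain ⟨j, d, h1, h2⟩ := h.prime Nat.prime_five h5
  exact h1.not_five h2

theorem not_exp (hp : Par m) (i : ι) : ¬ 2 * m i + 1 ∣ n := fun hd => by
  obtain ⟨j, d, h1, h2⟩ := h.prime (hp.gd i).1 hd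
  have := (hp.gd i).2
  exact hp.nd i j ((h1.dvd_pow (hp.gd i).1 h2).resolve_left (by omega))

theorem nonadj (hp : Par m) {i : ι} {c d : Fin 4} {r s : ℕ} (hr : Pr (m i) c r) (hs : Pr (m i) d s)
    (h1 : r ∣ n) (h2 : s ∣ n) : c = d := by
  obtain ⟨o, h3, h4⟩ := h
  exact (cls_eq hs.1 hs.2.2 (dvd_of_two_mul' hs.1 hs.ne_two
    ((hp.loc' h3 h4 hs h2).1.trans (hp.loc' h3 h4 hr h1).2.1))).symm

theorem all (hp : Par m) {c : ι → Fin 4} (hc : ∀ i, ∃ r, Pr (m i) (c i) r ∧ r ∣ n) {l : ℕ}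
    (hl : l.Prime) (hd : l ∣ n) : ∃ j, l ∣ 2 * mu (m j) (c j) ∧ (l = 2 → c j = 0 ∨ c j = 1) := by
  obtain ⟨o, h1, h2⟩ := h
  obtain ⟨j, hj⟩ := h2 l 0 hl (by simpa using hd)
  obtain ⟨r, hr, hr'⟩ := hc j
  rw [zero_add, pow_one] at hj
  obtain ⟨-, h3, h4⟩ := hp.loc' h1 h2 hr hr'
  exact ⟨j, hj.trans h3, fun e => h4 (e ▸ hj)⟩

theorem not_three (hp : Par m) (hc : ∀ i, ∃ c r, Pr (m i) c r ∧ r ∣ n) : ¬ 3 ∣ n := fun hd => by
  choose c hc using hc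
  obtain ⟨j, hj, -⟩ := h.all hp hc Nat.prime_three hd
  exact RSp.not_three _ (dvd_of_two_mul' Nat.prime_three (by norm_num) hj)

theorem not_mul (hp : Par m) {i : ι} {c : Fin 4} {l : ℕ} (hl : Pr (m i) c l) :
    ¬ mu (m i) c * l ∣ n := fun hd => by
  obtain ⟨o, h1, h2⟩ := h
  obtain ⟨h3, h4, -⟩ := hp.loc h1 h2 (e := (mu (m i) c).factorization l) hl
    ((mul_dvd_mul_right (Nat.ordProj_dvd _ l) l).trans hd)
  exact Nat.pow_succ_factorization_not_dvd (mu_pos c).ne' hl.1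
    (dvd_of_two_mul hl.1 hl.ne_two (h3.trans h4))

theorem not_18 (hp : Par m) (s : Set ι) (h3 : ∀ i ∈ s, ∀ j ∈ s, ∀ k ∈ s, i = j ∨ i = k ∨ j = k)
    (hc : ∀ i ∉ s, ∃ c r, Pr (m i) c r ∧ r ∣ n ∧ c ≠ 0 ∧ c ≠ 1 ∧ ¬ 7 ∣ mu (m i) c)
    (h7 : ∀ i ∈ s, ∀ j ∈ s, i ≠ j → 7 ∣ n) : ¬ 18 ∣ n := fun hd => by
  obtain ⟨o, h1, h2⟩ := h
  have key : ∀ j, 2 ∣ o j ∨ 3 ∣ o j ∨ 7 ∣ o j → j ∈ s := fun j hj => by
    by_contra hn
    obtain ⟨c, r, hr, hr', c0, c1, c7⟩ := hc j hn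
    obtain ⟨-, h4, h5⟩ := hp.loc' h1 h2 hr hr'
    rcases hj with hj | hj | hj
    · exact (h5 hj).elim c0 c1
    · exact RSp.not_three _ (dvd_of_two_mul' Nat.prime_three (by norm_num) (hj.trans h4))
    · exact c7 (dvd_of_two_mul' (by norm_num) (by norm_num) (hj.trans h4))
  obtain ⟨i, hi⟩ := h2 3 1 Nat.prime_three ((by norm_num : 3 ^ (1 + 1) ∣ 18).trans hd)
  obtain ⟨j, hj⟩ := h2 2 0 Nat.prime_two ((by norm_num : 2 ^ (0 + 1) ∣ 18).trans hd)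
  have h9 := (h1 i).dvd_nine hi
  have his := key i (Or.inr (Or.inl ((by norm_num : 3 ∣ 3 ^ (1 + 1)).trans hi)))
  have hjs := key j (Or.inl hj)
  have hij : i ≠ j := fun e => absurd ((e ▸ hj : 2 ^ (0 + 1) ∣ o i).trans h9) (by norm_num)
  obtain ⟨k, hk⟩ := h2 7 0 (by norm_num) (h7 i his j hjs hij)
  rcases h3 i his j hjs k (key k (Or.inr (Or.inr hk))) with e | e | e
  · exact hij e
  · exact absurd ((e ▸ hk : 7 ^ (0 + 1) ∣ o i).trans h9) (by norm_num)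
  · exact (h1 j).not_14 (hp.gd j) hj (e ▸ hk)

end Sp

theorem Par.exists_eq (hp : Par m) {b : ℕ} (hb : 1 ≤ b)
    (h : ∀ l : ℕ, l.Prime → l ∣ (3 ^ (2 * b + 1)) ^ 3 + 1 → Sp m l) : ∃ j, b = m j := by
  obtain ⟨l, hl, h1, h2, -⟩ := Cfsg.Agent.S3430.result 3 (6 * (2 * b + 1)) (by norm_num) (by omega)
    (by omega) (by omega) (by omega) (by omega)
  have h3 : 3 ^ (6 * (2 * b + 1)) - 1 = ((3 ^ (2 * b + 1)) ^ 3 + 1) * ((3 ^ (2 * b + 1)) ^ 3 - 1) := by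
    rw [← Nat.sq_sub_sq, ← pow_mul, ← pow_mul, one_pow]
    congr 2
    ring
  have h4 : l ∣ (3 ^ (2 * b + 1)) ^ 3 + 1 := ((Nat.Prime.dvd_mul hl).1 (h3 ▸ h1)).resolve_right (by
    rw [← pow_mul]
    exact h2 _ (by omega) (by omega))
  obtain ⟨j, d, h5, h6⟩ := (h l hl h4).prime hl dvd_rfl
  have h7 := (h5.dvd_pow hl h6).resolve_left (by
    rintro rfl
    have : 3 ∣ (3 ^ (2 * b + 1)) ^ 3 := (dvd_pow_self 3 (by omega)).trans (dvd_pow_self _ (by omega))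
    omega)
  have h8 := dvd_gcd_pow h1 h7
  have h9 : (6 * (2 * b + 1)).gcd (6 * (2 * m j + 1)) = 6 * (2 * b + 1) := by
    by_contra hne
    exact h2 _ (Nat.gcd_pos_of_pos_left _ (by omega))
      (lt_of_le_of_ne (Nat.gcd_le_left _ (by omega)) hne) h8
  have h10 := Nat.dvd_of_mul_dvd_mul_left (by norm_num : 0 < 6) (h9 ▸ Nat.gcd_dvd_right _ _)
  have := (Nat.dvd_prime (hp.gd j).1).1 h10
  exact ⟨j, by omega⟩

end Fam

/-- A rapidly growing sequence of primes. -/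
theorem exists_seq : ∃ m : ℕ → ℕ, StrictMono m ∧ Par m := by
  have step : ∀ a : ℕ, ∃ b, (2 * b + 1).Prime ∧ 3 ^ (6 * (2 * a + 1)) < 2 * b + 1 := fun a => by
    obtain ⟨p, h1, h2⟩ := Nat.exists_infinite_primes (3 ^ (6 * (2 * a + 1)) + 3)
    obtain ⟨b, rfl⟩ := h2.odd_of_ne_two (((Nat.le_add_left 3 _).trans h1).trans_lt' (by norm_num)).ne'
    exact ⟨b, h2, by omega⟩
  choose f hf1 hf2 using step
  have hlt : ∀ a, a < f a := fun a => by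
    have := Nat.lt_pow_self (n := 6 * (2 * a + 1)) (by norm_num : 1 < 3)
    have := hf2 a
    omega
  let m : ℕ → ℕ := fun i => f^[i + 1] 8
  have hm : ∀ i, m (i + 1) = f (m i) := fun i => Function.iterate_succ_apply' f _ _
  have hmono : StrictMono m := strictMono_nat_of_lt_succ fun i => hm i ▸ hlt _
  have hgd : ∀ i, Gd (m i) := fun i =>
    ⟨by simpa only [m, Function.iterate_succ_apply'] using hf1 _,
      ((hlt 8).le.trans (hmono.monotone (Nat.zero_le i)) : 8 ≤ m i)⟩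
  refine ⟨m, hmono, hgd, hmono.injective, fun i j hd => ?_⟩
  rcases lt_or_ge j i with h | h
  · obtain ⟨i, rfl⟩ := Nat.exists_eq_add_one.2 (Nat.zero_lt_of_lt h)
    have h1 := hf2 (m i)
    have h2 : 3 ^ (6 * (2 * m j + 1)) ≤ 3 ^ (6 * (2 * m i + 1)) := Nat.pow_le_pow_right (by norm_num)
      (by have := hmono.monotone (Nat.lt_succ_iff.1 h); omega)
    have h3 := Nat.le_of_dvd (Nat.sub_pos_of_lt (Nat.one_lt_pow (by omega) (by norm_num))) hd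
    rw [hm] at h3
    omega
  · have hp := (hgd i).1
    have h8 := (hgd i).2
    have h1 : 2 * m i + 1 ∣ 3 ^ (2 * m i) - 1 := by
      have := Nat.ModEq.pow_totient ((Nat.coprime_primes Nat.prime_three hp).2 (by omega))
      rw [Nat.totient_prime hp, Nat.add_sub_cancel] at this
      exact (Nat.modEq_iff_dvd' (Nat.one_le_pow _ _ (by norm_num))).1 this.symm
    have h2 : (2 * m i).gcd (6 * (2 * m j + 1)) ∣ 6 :=
      Nat.Coprime.dvd_of_dvd_mul_right (Nat.Coprime.coprime_dvd_left (Nat.gcd_dvd_left _ _)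
        (Nat.Coprime.symm ((hgd j).1.coprime_iff_not_dvd.2 fun h3 => by
          have := Nat.le_of_dvd (by omega) h3
          have := hmono.monotone h
          omega))) (Nat.gcd_dvd_right _ _)
    have := dvd_728 hp ((dvd_gcd_pow h1 hd).trans (Nat.pow_sub_one_dvd_pow_sub_one 3 h2))
    omega

end Cfsg.Lib.RSp
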